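import Groth.Agent.TorsDer.Derived
import Groth.Prelude.Def_SiteCmp
import Mathlib.CategoryTheory.Sites.EpiMono
import Mathlib.CategoryTheory.Sites.Subsheaf
import Mathlib.Algebra.Module.CharacterModule

set_option autoImplicit false

universe u

open CategoryTheory CategoryTheory.Limits Opposite

namespace Groth.Agent.TorsDer

variable {C : Type u} [SmallCategory C] (J : GrothendieckTopology C)



/-- Locally torsion sections. -/
def torsSub (F : Sheaf J AddCommGrpCat.{u}) (U : Cᵒᵖ) : AddSubgroup (F.obj.obj U) where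
  carrier := {s | ∃ S ∈ J U.unop, ∀ ⦃V : C⦄ (g : V ⟶ U.unop), S g →
    IsOfFinAddOrder ((F.obj.map g.op).hom s)}
  zero_mem' := ⟨⊤, J.top_mem _, fun V g _ => by rw [map_zero]; exact IsOfFinAddOrder.zero⟩
  add_mem' := by
    rintro s t ⟨S, hS, hs⟩ ⟨T, hT, ht⟩
    refine ⟨S ⊓ T, J.intersection_covering hS hT, fun V g hg => ?_⟩
    rw [map_add]
    exact (AddCommute.all _ _).isOfFinAddOrder_add (hs g hg.1) (ht g hg.2)
  neg_mem' := by
    rintro s ⟨S, hS, hs⟩
    refine ⟨S, hS, fun V g hg => ?_⟩
    rw [map_neg]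
    exact (hs g hg).neg

theorem map_map_apply (F : Sheaf J AddCommGrpCat.{u}) {U V W : C} (f : V ⟶ U) (g : W ⟶ V)
    (s : F.obj.obj (op U)) :
    (F.obj.map g.op).hom ((F.obj.map f.op).hom s) = (F.obj.map (g ≫ f).op).hom s := by
  rw [op_comp, Functor.map_comp]; rfl

theorem torsSub_map (F : Sheaf J AddCommGrpCat.{u}) {U V : Cᵒᵖ} (i : U ⟶ V) {s : F.obj.obj U}
    (hs : s ∈ torsSub J F U) : (F.obj.map i).hom s ∈ torsSub J F V := by
  obtain ⟨S, hS, h⟩ := hs
  refine ⟨S.pullback i.unop, J.pullback_stable _ hS, fun W g hg => ?_⟩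
  have := h _ hg
  rwa [show (F.obj.map g.op).hom ((F.obj.map i).hom s) = (F.obj.map (g ≫ i.unop).op).hom s from
    map_map_apply J F i.unop g s]

theorem torsSub_local (F : Sheaf J AddCommGrpCat.{u}) {U : C} (s : F.obj.obj (op U)) (S : Sieve U)
    (hS : S ∈ J U) (h : ∀ ⦃V : C⦄ (g : V ⟶ U), S g → (F.obj.map g.op).hom s ∈ torsSub J F (op V)) :
    s ∈ torsSub J F (op U) := by
  choose T hT hT' using h
  refine ⟨Sieve.bind S T, J.bind_covering hS (fun V g hg => hT g hg), ?_⟩
  rintro W _ ⟨V, g, f, hf, hg, rfl⟩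
  rw [← map_map_apply]
  exact hT' f hf g hg

theorem torsSub_of_nsmul (F : Sheaf J AddCommGrpCat.{u}) {U : C} (s : F.obj.obj (op U)) {n : ℕ}
    (hn : 0 < n) (h : n • s ∈ torsSub J F (op U)) : s ∈ torsSub J F (op U) := by
  obtain ⟨S, hS, h⟩ := h
  refine ⟨S, hS, fun V g hg => ?_⟩
  have := h g hg
  rw [map_nsmul] at this
  exact this.of_nsmul hn.ne'

theorem torsSub_natural {F G : Sheaf J AddCommGrpCat.{u}} (f : F ⟶ G) {U : Cᵒᵖ} {s : F.obj.obj U}
    (hs : s ∈ torsSub J F U) : (f.hom.app U).hom s ∈ torsSub J G U := by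
  obtain ⟨S, hS, h⟩ := hs
  refine ⟨S, hS, fun V g hg => ?_⟩
  have e : (G.obj.map g.op).hom ((f.hom.app U).hom s) =
      (f.hom.app (op V)).hom ((F.obj.map g.op).hom s) :=
    (ConcreteCategory.congr_hom (f.hom.naturality g.op) s).symm
  rw [e]
  exact (f.hom.app (op V)).hom.isOfFinAddOrder (h g hg)

/-- The presheaf of locally torsion sections. -/
def torsPre (F : Sheaf J AddCommGrpCat.{u}) : Cᵒᵖ ⥤ AddCommGrpCat.{u} where
  obj U := AddCommGrpCat.of (torsSub J F U)
  map i := AddCommGrpCat.ofHom (((F.obj.map i).hom.comp (torsSub J F _).subtype).codRestrict _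
    fun s => torsSub_map J F i s.2)
  map_id U := by
    apply AddCommGrpCat.ext
    intro s
    apply Subtype.ext
    exact ConcreteCategory.congr_hom (F.obj.map_id U) _
  map_comp i k := by
    apply AddCommGrpCat.ext
    intro s
    apply Subtype.ext
    exact ConcreteCategory.congr_hom (F.obj.map_comp i k) _

/-- The same as a subfunctor of sets. -/
def torsSubfun (F : Sheaf J AddCommGrpCat.{u}) : Subfunctor (F.obj ⋙ forget AddCommGrpCat.{u}) where
  obj U := {s | s ∈ torsSub J F U}
  map i := fun _ hs => torsSub_map J F i hs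

theorem torsPre_isSheaf (F : Sheaf J AddCommGrpCat.{u}) : Presheaf.IsSheaf J (torsPre J F) := by
  rw [Presheaf.isSheaf_iff_isSheaf_forget J (torsPre J F) (forget AddCommGrpCat.{u}),
    isSheaf_iff_isSheaf_of_type]
  have hF : Presieve.IsSheaf J (F.obj ⋙ forget AddCommGrpCat.{u}) :=
    (isSheaf_iff_isSheaf_of_type _ _).mp
      ((Presheaf.isSheaf_iff_isSheaf_forget J F.obj (forget AddCommGrpCat.{u})).mp F.property)
  have hG : Presieve.IsSheaf J (torsSubfun J F).toFunctor :=
    ((torsSubfun J F).isSheaf_iff hF).mpr fun U s hs =>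
      torsSub_local J F s ((torsSubfun J F).sieveOfSection s) hs (fun V g hg => hg)
  exact Presieve.isSheaf_iso J (NatIso.ofComponents (fun U => Iso.refl _) (fun i => rfl)) hG

/-- The torsion subsheaf. -/
def tors (F : Sheaf J AddCommGrpCat.{u}) : Sheaf J AddCommGrpCat.{u} :=
  ⟨torsPre J F, torsPre_isSheaf J F⟩

theorem tors_isTorsion (F : Sheaf J AddCommGrpCat.{u}) : SiteCmp.torsionSh J (tors J F) := by
  intro U s
  obtain ⟨S, hS, h⟩ := s.2
  refine ⟨S, hS, fun V g hg => ?_⟩
  obtain ⟨n, hn, hn'⟩ := isOfFinAddOrder_iff_nsmul_eq_zero.mp (h g hg)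
  exact isOfFinAddOrder_iff_nsmul_eq_zero.mpr ⟨n, hn, Subtype.ext hn'⟩

/-- The inclusion. -/
def torsι (F : Sheaf J AddCommGrpCat.{u}) : tors J F ⟶ F :=
  ⟨{ app := fun U => AddCommGrpCat.ofHom (torsSub J F U).subtype
     naturality := fun U V i => rfl }⟩

instance mono_torsι (F : Sheaf J AddCommGrpCat.{u}) : Mono (torsι J F) := by
  apply (sheafToPresheaf J AddCommGrpCat.{u}).mono_of_mono_map
  haveI : ∀ U, Mono ((torsι J F).hom.app U) := fun U =>
    (AddCommGrpCat.mono_iff_injective _).mpr Subtype.val_injective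
  exact NatTrans.mono_of_mono_app (torsι J F).hom

/-- A morphism landing in locally torsion sections factors through the torsion subsheaf. -/
def torsLift {F G : Sheaf J AddCommGrpCat.{u}} (f : F ⟶ G)
    (h : ∀ (U : Cᵒᵖ) (s : F.obj.obj U), (f.hom.app U).hom s ∈ torsSub J G U) : F ⟶ tors J G :=
  ⟨{ app := fun U => AddCommGrpCat.ofHom ((f.hom.app U).hom.codRestrict _ (h U))
     naturality := fun U V i => by
      apply AddCommGrpCat.ext
      intro s
      apply Subtype.ext
      exact ConcreteCategory.congr_hom (f.hom.naturality i) s }⟩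

theorem torsLift_ι {F G : Sheaf J AddCommGrpCat.{u}} (f : F ⟶ G)
    (h : ∀ (U : Cᵒᵖ) (s : F.obj.obj U), (f.hom.app U).hom s ∈ torsSub J G U) :
    torsLift J f h ≫ torsι J G = f := rfl

/-- Functoriality. -/
def torsFun : Sheaf J AddCommGrpCat.{u} ⥤ (SiteCmp.torsionSh J).FullSubcategory :=
  ObjectProperty.lift _
    { obj := tors J
      map := fun f => torsLift J (torsι J _ ≫ f) (fun _ s => torsSub_natural J f s.2)
      map_id := fun F => (cancel_mono (torsι J F)).mp (by rw [torsLift_ι]; simp)
      map_comp := fun f g => (cancel_mono (torsι J _)).mp (by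
        rw [torsLift_ι, Category.assoc, torsLift_ι, ← Category.assoc (torsLift J _ _), torsLift_ι,
          Category.assoc]) }
    (fun F => tors_isTorsion J F)

/-- Its comparison with the identity. -/
def torsNat : torsFun J ⋙ (SiteCmp.torsionSh J).ι ⟶ 𝟭 (Sheaf J AddCommGrpCat.{u}) where
  app F := torsι J F
  naturality F G f := torsLift_ι J (torsι J F ≫ f) _

instance [(SiteCmp.torsionSh J).IsSerreClass] : (torsFun J).PreservesZeroMorphisms where
  map_zero F G := (SiteCmp.torsionSh J).ι.map_injective ((cancel_mono (torsι J G)).mp (by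
    refine Eq.trans ((torsNat J).naturality (0 : F ⟶ G)) ?_
    refine Eq.trans (comp_zero (f := torsι J F)) ?_
    rw [Functor.map_zero]
    exact zero_comp.symm))

/-- Pointed functions on characters. -/
def dualSub (M : AddCommGrpCat.{u}) : AddSubgroup (CharacterModule M → AddCircle (1 : ℚ)) where
  carrier := {φ | φ 0 = 0}
  zero_mem' := rfl
  add_mem' {a b} (ha : a 0 = 0) (hb : b 0 = 0) := show a 0 + b 0 = 0 by rw [ha, hb, add_zero]
  neg_mem' {a} (ha : a 0 = 0) := show -a 0 = 0 by rw [ha, neg_zero]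

/-- A functorial embedding of abelian groups into divisible ones, preserving zero morphisms. -/
def divFun : AddCommGrpCat.{u} ⥤ AddCommGrpCat.{u} where
  obj M := AddCommGrpCat.of (dualSub M)
  map {M N} f := AddCommGrpCat.ofHom
    { toFun := fun φ => ⟨fun χ : N →+ AddCircle (1 : ℚ) => φ.1 (AddMonoidHom.comp χ f.hom),
        (congrArg φ.1 (AddMonoidHom.zero_comp f.hom)).trans φ.2⟩
      map_zero' := rfl
      map_add' := fun _ _ => rfl }
  map_id M := rfl
  map_comp f g := rfl

/-- Evaluation. -/
def divEta : 𝟭 AddCommGrpCat.{u} ⟶ divFun where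
  app M := AddCommGrpCat.ofHom
    { toFun := fun m => ⟨fun χ => χ m, rfl⟩
      map_zero' := Subtype.ext (funext fun χ => map_zero χ)
      map_add' := fun a b => Subtype.ext (funext fun χ => map_add χ a b) }
  naturality M N f := rfl

instance : divFun.{u}.PreservesZeroMorphisms where
  map_zero M N := by
    apply AddCommGrpCat.ext
    intro φ
    apply Subtype.ext
    funext χ
    exact (congrArg φ.1 (AddMonoidHom.comp_zero (χ : N →+ AddCircle (1 : ℚ)))).trans φ.2

instance mono_divEta (M : AddCommGrpCat.{u}) : Mono (divEta.app M) :=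
  (AddCommGrpCat.mono_iff_injective _).mpr ((injective_iff_map_eq_zero _).mpr fun _ hm =>
    CharacterModule.eq_zero_of_character_apply fun c => congrFun (congrArg Subtype.val hm) c)

theorem divFun_epi (M : AddCommGrpCat.{u}) {n : ℕ} (hn : 0 < n) :
    Epi (n • 𝟙 (divFun.obj M)) := by
  classical
  rw [AddCommGrpCat.epi_iff_surjective]
  intro φ
  refine ⟨⟨fun χ => if χ = 0 then 0 else DivisibleBy.div (φ.1 χ) (n : ℤ), if_pos rfl⟩, ?_⟩
  apply Subtype.ext
  funext χ
  change n • (if χ = 0 then 0 else DivisibleBy.div (φ.1 χ) (n : ℤ)) = φ.1 χ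
  split_ifs with h
  · rw [nsmul_zero, h]; exact φ.2.symm
  · rw [← natCast_zsmul]
    exact DivisibleBy.div_cancel (n := (n : ℤ)) _ (by exact_mod_cast hn.ne')

/-- The functorial divisible embedding of sheaves. -/
noncomputable def divSh : Sheaf J AddCommGrpCat.{u} ⥤ Sheaf J AddCommGrpCat.{u} :=
  sheafToPresheaf J _ ⋙ (Functor.whiskeringRight _ _ _).obj divFun ⋙ presheafToSheaf J _

instance : (divSh J).PreservesZeroMorphisms where
  map_zero F G := by
    change (presheafToSheaf J _).map (Functor.whiskerRight (0 : F ⟶ G).hom divFun) = 0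
    have : Functor.whiskerRight (0 : F ⟶ G).hom divFun = 0 := by
      ext U : 2
      exact divFun.map_zero _ _
    rw [this, Functor.map_zero]

/-- The embedding. -/
noncomputable def divShEta : 𝟭 (Sheaf J AddCommGrpCat.{u}) ⟶ divSh J :=
  (asIso (sheafificationAdjunction J AddCommGrpCat.{u}).counit).inv ≫
    Functor.whiskerRight (Functor.whiskerLeft (sheafToPresheaf J _)
      ((Functor.whiskeringRight _ _ _).map divEta)) (presheafToSheaf J _)

theorem mono_divShEta (F : Sheaf J AddCommGrpCat.{u}) : Mono ((divShEta J).app F) := by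
  rw [divShEta, NatTrans.comp_app]
  haveI : Mono ((asIso (sheafificationAdjunction J AddCommGrpCat.{u}).counit).inv.app F) := inferInstance
  haveI : ∀ U, Mono ((Functor.whiskerLeft F.obj divEta).app U) := fun U => mono_divEta _
  haveI : Mono (Functor.whiskerLeft F.obj divEta) := NatTrans.mono_of_mono_app _
  haveI hm : Mono ((presheafToSheaf J AddCommGrpCat.{u}).map (Functor.whiskerLeft F.obj divEta)) :=
    inferInstance
  exact @mono_comp _ _ _ _ _ _ inferInstance _ hm

theorem epi_nsmul_divSh (F : Sheaf J AddCommGrpCat.{u}) {n : ℕ} (hn : 0 < n) :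
    Epi (n • 𝟙 ((divSh J).obj F)) := by
  haveI : ∀ U, Epi ((n • 𝟙 (F.obj ⋙ divFun)).app U) := fun U => by
    rw [show (n • 𝟙 (F.obj ⋙ divFun)).app U = n • 𝟙 (divFun.obj (F.obj.obj U)) from
      (NatTrans.app_nsmul _ _ _).trans rfl]
    exact divFun_epi _ hn
  haveI : Epi (n • 𝟙 (F.obj ⋙ divFun)) := NatTrans.epi_of_epi_app _
  have h : Epi ((presheafToSheaf J AddCommGrpCat.{u}).map (n • 𝟙 (F.obj ⋙ divFun))) := inferInstance
  rwa [Functor.map_nsmul, CategoryTheory.Functor.map_id] at h

/-- The second term. -/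
noncomputable def divCok : Sheaf J AddCommGrpCat.{u} ⥤ Sheaf J AddCommGrpCat.{u} where
  obj F := cokernel ((divShEta J).app F)
  map f := cokernel.map _ _ f ((divSh J).map f) ((divShEta J).naturality f).symm
  map_id F := by
    apply coequalizer.hom_ext
    simp
    first | exact (Category.comp_id _).symm | exact Category.comp_id _ | skip
  map_comp f g := by
    apply coequalizer.hom_ext
    simp

instance : (divCok J).PreservesZeroMorphisms where
  map_zero F G := by
    apply coequalizer.hom_ext
    simp [divCok]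
    exact comp_zero.symm

/-- The projection. -/
noncomputable def divProj : divSh J ⟶ divCok J where
  app F := cokernel.π _
  naturality F G f := (cokernel.π_desc _ _ _).symm

theorem nsmul_hom_app {F G : Sheaf J AddCommGrpCat.{u}} (f : F ⟶ G) (n : ℕ) (U : Cᵒᵖ)
    (s : F.obj.obj U) : ((n • f).hom.app U).hom s = n • (f.hom.app U).hom s := by
  have h : (n • f).hom.app U = n • f.hom.app U := by
    change ((evaluation _ _).obj U).map ((sheafToPresheaf J _).map (n • f)) = _
    rw [Functor.map_nsmul, Functor.map_nsmul]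
    rfl
  rw [h]; rfl

theorem udiv_cokernel (X : Sheaf J AddCommGrpCat.{u}) (h : ∀ n : ℕ, 0 < n → Epi (n • 𝟙 X)) :
    UDiv (cokernel (torsι J X)) := by
  intro n hn
  haveI := h n hn
  haveI : Epi (n • 𝟙 (cokernel (torsι J X))) := by
    refine epi_of_epi_fac (f := cokernel.π (torsι J X)) (h := (n • 𝟙 X) ≫ cokernel.π (torsι J X)) ?_
    simp [Preadditive.comp_nsmul, Preadditive.nsmul_comp]
  haveI : Mono (n • 𝟙 (cokernel (torsι J X))) := by
    rw [Preadditive.mono_iff_cancel_zero]
    intro A k hk
    let k' := pullback.snd k (cokernel.π (torsι J X))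
    have hsq : pullback.fst k (cokernel.π (torsι J X)) ≫ k = k' ≫ cokernel.π (torsι J X) :=
      pullback.condition
    have h0 : (n • k') ≫ cokernel.π (torsι J X) = 0 := by
      rw [Preadditive.nsmul_comp, ← hsq, ← Preadditive.comp_nsmul,
        show n • k = k ≫ (n • 𝟙 _) by simp [Preadditive.comp_nsmul], hk, comp_zero]
    obtain ⟨l, hl⟩ := KernelFork.IsLimit.lift'
      (Abelian.monoIsKernelOfCokernel _ (cokernelIsCokernel (torsι J X))) _ h0
    have hmem : ∀ U s, (k'.hom.app U).hom s ∈ torsSub J X U := fun U s => by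
      refine torsSub_of_nsmul J X (U := U.unop) _ hn ?_
      rw [← nsmul_hom_app J k' n U s, ← hl]
      exact ((l.hom.app U).hom s).2
    have hk' : k' ≫ cokernel.π (torsι J X) = 0 := by
      rw [← torsLift_ι J k' hmem, Category.assoc, cokernel.condition, comp_zero]
    rw [← cancel_epi (pullback.fst k (cokernel.π (torsι J X))), hsq, hk', comp_zero]
  exact isIso_of_mono_of_epi _

theorem isZero_of_torsion_udiv (F : Sheaf J AddCommGrpCat.{u}) (h : SiteCmp.torsionSh J F)
    (h' : UDiv F) : IsZero F := by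
  rw [IsZero.iff_id_eq_zero]
  apply (sheafToPresheaf J _).map_injective
  rw [Functor.map_zero]
  ext U : 2
  apply AddCommGrpCat.ext
  intro s
  change s = 0
  obtain ⟨S, hS, hs⟩ := h U.unop s
  have hF : Presieve.IsSeparated J (F.obj ⋙ forget AddCommGrpCat.{u}) :=
    ((isSheaf_iff_isSheaf_of_type _ _).mp
      ((Presheaf.isSheaf_iff_isSheaf_forget J F.obj (forget AddCommGrpCat.{u})).mp F.property)).isSeparated
  refine (hF S hS).ext fun V g hg => ?_
  change (F.obj.map g.op).hom s = (F.obj.map g.op).hom 0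
  rw [map_zero]
  obtain ⟨n, hn, hn'⟩ := isOfFinAddOrder_iff_nsmul_eq_zero.mp (hs g hg)
  haveI := h' n hn
  have hinj : ((inv (n • 𝟙 F)).hom.app (op V)).hom (((n • 𝟙 F).hom.app (op V)).hom
      ((F.obj.map g.op).hom s)) = (F.obj.map g.op).hom s :=
    ConcreteCategory.congr_hom (congrArg (fun t : F ⟶ F => t.hom.app (op V)) (IsIso.hom_inv_id (n • 𝟙 F))) _
  rw [← hinj, nsmul_hom_app]
  exact (congrArg _ hn').trans (map_zero _)

theorem isIso_torsι (F : Sheaf J AddCommGrpCat.{u}) (h : SiteCmp.torsionSh J F) :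
    IsIso (torsι J F) := by
  have h1 : torsLift J (𝟙 F) (fun U s => h U.unop s) ≫ torsι J F = 𝟙 F := torsLift_ι J _ _
  exact ⟨_, (cancel_mono (torsι J F)).mp (by rw [Category.assoc, h1, Category.comp_id, Category.id_comp]), h1⟩

variable [(SiteCmp.torsionSh J).IsSerreClass]

theorem tors_ses (M : Sheaf J AddCommGrpCat.{u}) (hM : SiteCmp.torsionSh J M) :
    (ShortComplex.mk ((SiteCmp.torsionSh J).ι.map ((torsFun J).map ((divShEta J).app M)))
      ((SiteCmp.torsionSh J).ι.map ((torsFun J).map ((divProj J).app M)))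
      (by rw [← Functor.map_comp, ← Functor.map_comp,
        show (divShEta J).app M ≫ (divProj J).app M = 0 from cokernel.condition _,
        Functor.map_zero, Functor.map_zero])).ShortExact := by
  haveI := mono_divShEta J M
  haveI := isIso_torsι J M hM
  let f : tors J M ⟶ tors J ((divSh J).obj M) :=
    (SiteCmp.torsionSh J).ι.map ((torsFun J).map ((divShEta J).app M))
  let g : tors J ((divSh J).obj M) ⟶ tors J ((divCok J).obj M) :=
    (SiteCmp.torsionSh J).ι.map ((torsFun J).map ((divProj J).app M))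
  have hf : f ≫ torsι J _ = torsι J M ≫ (divShEta J).app M := torsLift_ι J _ _
  have hg : g ≫ torsι J _ = torsι J _ ≫ (divProj J).app M := torsLift_ι J _ _
  have hfm : Mono f := by
    haveI : Mono (torsι J M ≫ (divShEta J).app M) := mono_comp _ _
    exact mono_of_mono_fac hf
  have hker : IsLimit (KernelFork.ofι (f := (divProj J).app M) ((divShEta J).app M)
      (cokernel.condition ((divShEta J).app M))) :=
    Abelian.monoIsKernelOfCokernel
      (CokernelCofork.ofπ _ (cokernel.condition ((divShEta J).app M))) (cokernelIsCokernel _)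
  have hfg : f ≫ g = 0 := by
    rw [← cancel_mono (torsι J _), zero_comp, Category.assoc, hg, reassoc_of% hf,
      show (divShEta J).app M ≫ (divProj J).app M = 0 from cokernel.condition _, comp_zero]
  change (ShortComplex.mk f g hfg).ShortExact
  refine { exact := ?_, mono_f := hfm, epi_g := ?_ }
  · haveI : Mono (ShortComplex.mk f g hfg).f := hfm
    apply ShortComplex.exact_of_f_is_kernel
    apply KernelFork.IsLimit.ofι' _ _
    intro A k hk
    have hk' : (k ≫ torsι J _) ≫ (divProj J).app M = 0 := by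
      rw [Category.assoc, ← hg, reassoc_of% hk, zero_comp]
    obtain ⟨l, hl⟩ := KernelFork.IsLimit.lift' hker _ hk'
    simp only [Fork.ι_ofι] at hl
    refine ⟨l ≫ inv (torsι J M), (cancel_mono (torsι J _)).mp ?_⟩
    rw [Category.assoc, hf, Category.assoc, IsIso.inv_hom_id_assoc, hl]
  · haveI : Epi ((divProj J).app M) := inferInstanceAs (Epi (cokernel.π _))
    have hls : Sheaf.IsLocallySurjective ((divProj J).app M) :=
      (Sheaf.isLocallySurjective_iff_epi' (φ := (divProj J).app M)).mpr inferInstance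
    apply (Sheaf.isLocallySurjective_iff_epi' (φ := g)).mp
    refine ⟨fun {U} s => ?_⟩
    obtain ⟨S, hS, hs⟩ := s.2
    have hT := Presheaf.imageSieve_mem J ((divProj J).app M).hom ((torsι J _).hom.app _ |>.hom s)
    refine J.superset_covering ?_ (J.intersection_covering hS hT)
    rintro V i ⟨hi1, t, ht⟩
    obtain ⟨n, hn, hn'⟩ := isOfFinAddOrder_iff_nsmul_eq_zero.mp (hs i hi1)
    have hex : ((ShortComplex.mk ((divShEta J).app M) ((divProj J).app M) (cokernel.condition _)).map
        (sheafToPresheaf J _ ⋙ (evaluation _ _).obj (op V))).Exact :=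
      ShortComplex.Exact.map_of_mono_of_preservesKernel
        (ShortComplex.exact_of_g_is_cokernel _ (cokernelIsCokernel ((divShEta J).app M))) _
        (mono_divShEta J M) inferInstance
    rw [ShortComplex.ab_exact_iff] at hex
    have hzero : (((divProj J).app M).hom.app (op V)).hom (n • t) = 0 := by
      rw [map_nsmul]
      exact (congrArg (fun x => n • x) ht).trans hn'
    obtain ⟨m, hm⟩ := hex (n • t) hzero
    have hnt : n • t ∈ torsSub J ((divSh J).obj M) (op V) :=
      (show (((divShEta J).app M).hom.app (op V)).hom m = n • t from hm) ▸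
        torsSub_natural J ((divShEta J).app M) (hM V m)
    exact ⟨⟨t, torsSub_of_nsmul J _ t hn hnt⟩, Subtype.ext ht⟩

/-- The data for torsion sheaves. -/
noncomputable def torsData : Data (SiteCmp.torsionSh J) where
  E := divSh J
  Q1 := divCok J
  R := torsFun J
  j := divShEta J
  p := divProj J
  w M := cokernel.condition _
  hses M :=
    haveI := mono_divShEta J M
    { exact := ShortComplex.exact_of_g_is_cokernel _ (cokernelIsCokernel _)
      mono_f := mono_divShEta J M
      epi_g := inferInstanceAs (Epi (cokernel.π _)) }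
  ι := torsNat J
  hmono M := mono_torsι J M
  hUE M := udiv_cokernel J _ fun _ hn => epi_nsmul_divSh J M hn
  hUQ M := udiv_cokernel J _ fun n hn => by
    haveI := epi_nsmul_divSh J M hn
    haveI : Epi ((divProj J).app M) := inferInstanceAs (Epi (cokernel.π _))
    refine epi_of_epi_fac (f := (divProj J).app M) (h := (n • 𝟙 _) ≫ (divProj J).app M) ?_
    simp [Preadditive.comp_nsmul, Preadditive.nsmul_comp]
  hPU := isZero_of_torsion_udiv J
  hι := isIso_torsι J
  hR := tors_ses J

end Groth.Agent.TorsDer
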