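import Mathlib.Algebra.Homology.DerivedCategory.ExactFunctor
import Mathlib.Algebra.Homology.DerivedCategory.HomologySequence
import Mathlib.Algebra.Homology.HomologicalComplexAbelian
import Mathlib.Algebra.Homology.HomotopyCategory.MappingCone

set_option autoImplicit false

universe v u v' u' v'' u''

open CategoryTheory CategoryTheory.Limits CochainComplex

namespace Groth.Agent.TorsDer

attribute [local instance] HasDerivedCategory.standard

variable {C : Type u} [Category.{v} C] [Abelian C]

section components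

variable {K₁ L₁ K₂ L₂ : CochainComplex C ℤ} (φ₁ : K₁ ⟶ L₁) (φ₂ : K₂ ⟶ L₂)
  (a : K₁ ⟶ K₂) (b : L₁ ⟶ L₂) (comm : φ₁ ≫ b = a ≫ φ₂) (n : ℤ)

@[reassoc]
theorem map_f_fst :
    (mappingCone.map φ₁ φ₂ a b comm).f n ≫ (mappingCone.fst φ₂).1.v n (n + 1) rfl =
      (mappingCone.fst φ₁).1.v n (n + 1) rfl ≫ a.f (n + 1) := by
  simp [mappingCone.ext_from_iff _ (n + 1) n rfl, mappingCone.map]

@[reassoc]
theorem map_f_snd :
    (mappingCone.map φ₁ φ₂ a b comm).f n ≫ (mappingCone.snd φ₂).v n n (add_zero n) =
      (mappingCone.snd φ₁).v n n (add_zero n) ≫ b.f n := by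
  simp [mappingCone.ext_from_iff _ (n + 1) n rfl, mappingCone.map]

@[reassoc]
theorem inl_map_f :
    (mappingCone.inl φ₁).v (n + 1) n (by omega) ≫ (mappingCone.map φ₁ φ₂ a b comm).f n =
      a.f (n + 1) ≫ (mappingCone.inl φ₂).v (n + 1) n (by omega) := by
  simp [mappingCone.map]

@[reassoc]
theorem inr_map_f :
    (mappingCone.inr φ₁).f n ≫ (mappingCone.map φ₁ φ₂ a b comm).f n =
      b.f n ≫ (mappingCone.inr φ₂).f n := by
  simp [mappingCone.map]

theorem mono_map_f (ha : Mono (a.f (n + 1))) (hb : Mono (b.f n)) :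
    Mono ((mappingCone.map φ₁ φ₂ a b comm).f n) := by
  rw [Preadditive.mono_iff_cancel_zero]
  intro A k hk
  have e1 : (k ≫ (mappingCone.fst φ₁).1.v n (n + 1) rfl) ≫ a.f (n + 1) = 0 := by
    rw [Category.assoc, ← map_f_fst φ₁ φ₂ a b comm n, reassoc_of% hk, zero_comp]
  have e2 : (k ≫ (mappingCone.snd φ₁).v n n (add_zero n)) ≫ b.f n = 0 := by
    rw [Category.assoc, ← map_f_snd φ₁ φ₂ a b comm n, reassoc_of% hk, zero_comp]
  exact (mappingCone.ext_to_iff φ₁ n (n + 1) rfl k 0).mpr
    ⟨by rw [zero_comp]; exact zero_of_comp_mono _ e1, by rw [zero_comp]; exact zero_of_comp_mono _ e2⟩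

theorem epi_map_f (ha : Epi (a.f (n + 1))) (hb : Epi (b.f n)) :
    Epi ((mappingCone.map φ₁ φ₂ a b comm).f n) := by
  rw [Preadditive.epi_iff_cancel_zero]
  intro A k hk
  have e1 : a.f (n + 1) ≫ (mappingCone.inl φ₂).v (n + 1) n (by omega) ≫ k = 0 := by
    rw [← inl_map_f_assoc φ₁ φ₂ a b comm n, hk, comp_zero]
  have e2 : b.f n ≫ (mappingCone.inr φ₂).f n ≫ k = 0 := by
    rw [← inr_map_f_assoc φ₁ φ₂ a b comm n, hk, comp_zero]
  exact (mappingCone.ext_from_iff φ₂ (n + 1) n rfl k 0).mpr
    ⟨by rw [comp_zero]; exact zero_of_epi_comp _ e1, by rw [comp_zero]; exact zero_of_epi_comp _ e2⟩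

end components

/-- The short complex of mapping cones of a morphism of short complexes of cochain complexes. -/
noncomputable def coneSC {S S' : ShortComplex (CochainComplex C ℤ)} (φ : S ⟶ S') :
    ShortComplex (CochainComplex C ℤ) :=
  ShortComplex.mk (mappingCone.map φ.τ₁ φ.τ₂ S.f S'.f φ.comm₁₂)
    (mappingCone.map φ.τ₂ φ.τ₃ S.g S'.g φ.comm₂₃) (by
      have h1 : ∀ n, S.f.f n ≫ S.g.f n = 0 := fun n => by rw [← HomologicalComplex.comp_f, S.zero]; rfl
      have h2 : ∀ n, S'.f.f n ≫ S'.g.f n = 0 := fun n => by rw [← HomologicalComplex.comp_f, S'.zero]; rfl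
      ext n
      simp [mappingCone.ext_from_iff _ (n + 1) n rfl, mappingCone.map, reassoc_of% (h1 (n + 1)),
        reassoc_of% (h2 n)])

/-- A short exact sequence in both slots gives a short exact sequence of cones. -/
theorem coneSC_shortExact {S S' : ShortComplex (CochainComplex C ℤ)} (φ : S ⟶ S')
    (hS : S.ShortExact) (hS' : S'.ShortExact) : (coneSC φ).ShortExact := by
  apply HomologicalComplex.shortExact_of_degreewise_shortExact
  intro n
  have h1 := hS.map_of_exact (HomologicalComplex.eval C (ComplexShape.up ℤ) (n + 1))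
  have h2 := hS'.map_of_exact (HomologicalComplex.eval C (ComplexShape.up ℤ) n)
  haveI : Mono (S.f.f (n + 1)) := h1.mono_f
  haveI : Mono (S'.f.f n) := h2.mono_f
  have hm : Mono ((coneSC φ).map (HomologicalComplex.eval C (ComplexShape.up ℤ) n)).f :=
    mono_map_f φ.τ₁ φ.τ₂ S.f S'.f φ.comm₁₂ n h1.mono_f h2.mono_f
  refine { exact := ?_, mono_f := hm,
           epi_g := epi_map_f φ.τ₂ φ.τ₃ S.g S'.g φ.comm₂₃ n h1.epi_g h2.epi_g }
  apply ShortComplex.exact_of_f_is_kernel
  apply KernelFork.IsLimit.ofι' _ _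
  intro A (k : A ⟶ (mappingCone φ.τ₂).X n)
    (hk : k ≫ (mappingCone.map φ.τ₂ φ.τ₃ S.g S'.g φ.comm₂₃).f n = 0)
  have e1 : (k ≫ (mappingCone.fst φ.τ₂).1.v n (n + 1) rfl) ≫ S.g.f (n + 1) = 0 := by
    rw [Category.assoc, ← map_f_fst φ.τ₂ φ.τ₃ S.g S'.g φ.comm₂₃ n, reassoc_of% hk, zero_comp]
  have e2 : (k ≫ (mappingCone.snd φ.τ₂).v n n (add_zero n)) ≫ S'.g.f n = 0 := by
    rw [Category.assoc, ← map_f_snd φ.τ₂ φ.τ₃ S.g S'.g φ.comm₂₃ n, reassoc_of% hk, zero_comp]
  let l1 : A ⟶ S.X₁.X (n + 1) := (KernelFork.IsLimit.lift' h1.fIsKernel _ e1).1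
  let l2 : A ⟶ S'.X₁.X n := (KernelFork.IsLimit.lift' h2.fIsKernel _ e2).1
  have hl1 : l1 ≫ S.f.f (n + 1) = k ≫ (mappingCone.fst φ.τ₂).1.v n (n + 1) rfl :=
    (KernelFork.IsLimit.lift' h1.fIsKernel _ e1).2
  have hl2 : l2 ≫ S'.f.f n = k ≫ (mappingCone.snd φ.τ₂).v n n (add_zero n) :=
    (KernelFork.IsLimit.lift' h2.fIsKernel _ e2).2
  refine ⟨l1 ≫ (mappingCone.inl φ.τ₁).v (n + 1) n (by omega) + l2 ≫ (mappingCone.inr φ.τ₁).f n, ?_⟩
  change (_ : A ⟶ (mappingCone φ.τ₁).X n) ≫
    (mappingCone.map φ.τ₁ φ.τ₂ S.f S'.f φ.comm₁₂).f n = k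
  rw [mappingCone.ext_to_iff φ.τ₂ n (n + 1) rfl]
  constructor
  · simpa [mappingCone.map] using hl1
  · simpa [mappingCone.map] using hl2

/-- Functoriality of the mapping cone of a natural transformation. -/
@[simps]
noncomputable def coneFun {B : Type u'} [Category.{v'} B] {F G : B ⥤ CochainComplex C ℤ}
    (α : F ⟶ G) : B ⥤ CochainComplex C ℤ where
  obj K := mappingCone (α.app K)
  map f := mappingCone.map _ _ (F.map f) (G.map f) (α.naturality f).symm
  map_id K := by
    ext n
    simp [mappingCone.ext_from_iff _ (n + 1) n rfl, mappingCone.map]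
  map_comp f g := by
    ext n
    simp [mappingCone.ext_from_iff _ (n + 1) n rfl, mappingCone.map]

/-- A commutative square of natural transformations induces a map of cones. -/
@[simps]
noncomputable def coneNat {B : Type u'} [Category.{v'} B] {F G F' G' : B ⥤ CochainComplex C ℤ}
    (α : F ⟶ G) (β : F' ⟶ G') (a : F ⟶ F') (b : G ⟶ G') (h : α ≫ b = a ≫ β) :
    coneFun α ⟶ coneFun β where
  app K := mappingCone.map _ _ (a.app K) (b.app K) (by rw [← NatTrans.comp_app, h, NatTrans.comp_app])
  naturality K L f := by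
    dsimp [coneFun]
    rw [← mappingCone.map_comp, ← mappingCone.map_comp]
    congr 1
    · exact a.naturality f
    · exact b.naturality f

set_option backward.defeqAttrib.useBackward true in
set_option backward.isDefEq.respectTransparency false in
/-- Additive functors commute with cones, naturally. -/
noncomputable def coneFunCompIso {D : Type u''} [Category.{v''} D] [Abelian D]
    {B : Type u'} [Category.{v'} B] {F G : B ⥤ CochainComplex C ℤ} (α : F ⟶ G)
    (H : C ⥤ D) [H.Additive] :
    coneFun α ⋙ H.mapHomologicalComplex (ComplexShape.up ℤ) ≅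
      coneFun (Functor.whiskerRight α (H.mapHomologicalComplex (ComplexShape.up ℤ))) :=
  NatIso.ofComponents (fun K => mappingCone.mapHomologicalComplexIso (α.app K) H) (by
    intro K L f
    ext n
    have e : ∀ (M : B), (mappingCone.mapHomologicalComplexIso (α.app M) H).hom.f n =
        (mappingCone.mapHomologicalComplexXIso' (α.app M) H n (n + 1) rfl).hom := fun M => rfl
    change H.map ((mappingCone.map _ _ (F.map f) (G.map f) (α.naturality f).symm).f n) ≫ _ = _ ≫ (mappingCone.map
      ((H.mapHomologicalComplex _).map (α.app K)) ((H.mapHomologicalComplex _).map (α.app L))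
      ((H.mapHomologicalComplex _).map (F.map f)) ((H.mapHomologicalComplex _).map (G.map f))
      ((Functor.whiskerRight α (H.mapHomologicalComplex (ComplexShape.up ℤ))).naturality f).symm).f n
    rw [e, e, mappingCone.ext_to_iff _ n (n + 1) rfl]
    constructor
    · simp only [Category.assoc, map_f_fst, mappingCone.mapHomologicalComplexXIso'_hom]
      simp only [Preadditive.add_comp, Preadditive.comp_add, Category.assoc,
        mappingCone.inl_v_fst_v, mappingCone.inr_f_fst_v, mappingCone.inl_v_fst_v_assoc,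
        mappingCone.inr_f_fst_v_assoc, Functor.mapHomologicalComplex_obj_X,
        Functor.mapHomologicalComplex_map_f, Category.comp_id, comp_zero, zero_comp, add_zero]
      rw [← H.map_comp, ← H.map_comp, map_f_fst]
    · simp only [Category.assoc, map_f_snd, mappingCone.mapHomologicalComplexXIso'_hom]
      simp only [Preadditive.add_comp, Preadditive.comp_add, Category.assoc,
        mappingCone.inl_v_snd_v, mappingCone.inr_f_snd_v, mappingCone.inl_v_snd_v_assoc,
        mappingCone.inr_f_snd_v_assoc, Functor.mapHomologicalComplex_obj_X,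
        Functor.mapHomologicalComplex_map_f, Category.comp_id, comp_zero, zero_comp, zero_add]
      rw [← H.map_comp, ← H.map_comp, map_f_snd])

/-- A morphism is a quasi-isomorphism as soon as its cone is exact. -/
theorem quasiIso_iff_isZero_cone {K L : CochainComplex C ℤ} (f : K ⟶ L) :
    QuasiIso f ↔ IsZero (DerivedCategory.Q.obj (mappingCone f)) := by
  rw [← DerivedCategory.isIso_Q_map_iff_quasiIso]
  exact ((Pretriangulated.Triangle.isZero₃_iff_isIso₁ _
    (DerivedCategory.mappingCone_triangle_distinguished f))).symm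

theorem isZero_Q_obj_iff (K : CochainComplex C ℤ) :
    IsZero (DerivedCategory.Q.obj K) ↔ ∀ n : ℤ, IsZero (K.homology n) := by
  constructor
  · intro h n
    exact IsZero.of_iso (Functor.map_isZero (DerivedCategory.homologyFunctor C n) h)
      ((DerivedCategory.homologyFunctorFactors C n).app K).symm
  · intro h
    have hz : IsZero (HomologicalComplex.zero : CochainComplex C ℤ) := HomologicalComplex.isZero_zero
    have h' : QuasiIso (0 : K ⟶ (HomologicalComplex.zero : CochainComplex C ℤ)) := by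
      constructor
      intro n
      rw [quasiIsoAt_iff_isIso_homologyMap]
      exact ⟨0, (h n).eq_of_src _ _,
        (Functor.map_isZero (HomologicalComplex.homologyFunctor C (ComplexShape.up ℤ) n) hz).eq_of_src _ _⟩
    haveI : IsIso (DerivedCategory.Q.map (0 : K ⟶ (HomologicalComplex.zero : CochainComplex C ℤ))) :=
      (DerivedCategory.isIso_Q_map_iff_quasiIso (φ := _)).2 h'
    exact IsZero.of_iso (Functor.map_isZero DerivedCategory.Q hz)
      (asIso (DerivedCategory.Q.map (0 : K ⟶ (HomologicalComplex.zero : CochainComplex C ℤ))))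

end Groth.Agent.TorsDer
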