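import Groth.Agent.TorsDer.ConeSES
import Groth.Prelude.Def_WeakSerre
import Mathlib.Algebra.Homology.DerivedCategory.ShortExact
import Mathlib.Algebra.Homology.HomotopyCategory.ShiftSequence
import Mathlib.CategoryTheory.Abelian.ShortExact

/-!
An abstract criterion for `D(P) ⥤ D_P(C)` to be an equivalence: `C` has a functorial two-term
resolution `M → E M → Q M`, a "torsion part" functor `R` with values in the Serre class `P`,
and `E M / R E M`, `Q M / R Q M` are uniquely divisible while uniquely divisible objects of `P` vanish.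
-/

set_option autoImplicit false

universe v u v' u'

open CategoryTheory CategoryTheory.Limits CochainComplex

namespace Groth.Agent.TorsDer

attribute [local instance] HasDerivedCategory.standard

section general

variable {C : Type u} [Category.{v} C] [Abelian C]

/-- Multiplication by every positive integer is invertible. -/
def UDiv : ObjectProperty C := fun M => ∀ n : ℕ, 0 < n → IsIso (n • 𝟙 M)

theorem UDiv.of_iso {M N : C} (h : UDiv M) (e : M ≅ N) : UDiv N := by
  intro n hn
  haveI := h n hn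
  have : n • 𝟙 N = e.inv ≫ (n • 𝟙 M) ≫ e.hom := by
    simp [Preadditive.nsmul_comp, Preadditive.comp_nsmul]
  rw [this]; infer_instance

theorem UDiv.biprod {M N : C} (hM : UDiv M) (hN : UDiv N) : UDiv (M ⊞ N) := by
  intro n hn
  haveI := hM n hn; haveI := hN n hn
  have : n • 𝟙 (M ⊞ N) = (biprod.mapIso (asIso (n • 𝟙 M)) (asIso (n • 𝟙 N))).hom := by
    ext <;> simp [Preadditive.nsmul_comp, Preadditive.comp_nsmul]
  rw [this]; infer_instance

theorem UDiv.homology (K : CochainComplex C ℤ) (h : ∀ i, UDiv (K.X i)) (i : ℤ) :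
    UDiv (K.homology i) := by
  intro n hn
  haveI : ∀ j, IsIso ((n • 𝟙 K : K ⟶ K).f j) := fun j => by
    haveI := h j n hn
    simpa using this
  haveI : IsIso (n • 𝟙 K : K ⟶ K) := HomologicalComplex.Hom.isIso_of_components _
  have : n • 𝟙 (K.homology i) = HomologicalComplex.homologyMap (n • 𝟙 K) i := by
    change _ = (HomologicalComplex.homologyFunctor C (ComplexShape.up ℤ) i).map (n • 𝟙 K)
    rw [Functor.map_nsmul, CategoryTheory.Functor.map_id]
    rfl
  rw [this]
  exact inferInstanceAs (IsIso ((HomologicalComplex.homologyFunctor C (ComplexShape.up ℤ) i).map _))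

theorem cone_terms (P : ObjectProperty C) [P.IsClosedUnderIsomorphisms]
    (hb : ∀ M N, P M → P N → P (M ⊞ N)) {K L : CochainComplex C ℤ} (f : K ⟶ L)
    (hK : ∀ i, P (K.X i)) (hL : ∀ i, P (L.X i)) (i : ℤ) : P ((mappingCone f).X i) :=
  P.prop_of_iso (HomologicalComplex.homotopyCofiber.XIsoBiprod f i (i + 1) rfl).symm
    (hb _ _ (hK (i + 1)) (hL i))

instance udiv_closed : (UDiv (C := C)).IsClosedUnderIsomorphisms :=
  ⟨fun e h => UDiv.of_iso h e⟩

theorem homology_prop (P : ObjectProperty C) [WSerre.IsWeakSerre P] (K : CochainComplex C ℤ)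
    (h : ∀ i, P (K.X i)) (i : ℤ) : P (K.homology i) := by
  have h2 : P (K.cycles i) :=
    P.prop_of_isLimit_kernelFork (K.cyclesIsKernel i (i + 1) (by simp)) (h i) (h (i + 1))
  exact P.prop_of_isColimit_cokernelCofork (K.homologyIsCokernel (i - 1) i (by simp)) (h (i - 1)) h2

theorem isZero_Q_cone_id (K : CochainComplex C ℤ) :
    IsZero (DerivedCategory.Q.obj (mappingCone (𝟙 K))) :=
  (quasiIso_iff_isZero_cone (𝟙 K)).mp inferInstance

/-- In a short exact sequence with acyclic third term, the first map is invertible in `D(C)`. -/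
theorem isIso_Q_f {S : ShortComplex (CochainComplex C ℤ)} (hS : S.ShortExact)
    (h3 : IsZero (DerivedCategory.Q.obj S.X₃)) : IsIso (DerivedCategory.Q.map S.f) :=
  (Pretriangulated.Triangle.isZero₃_iff_isIso₁ _
    (DerivedCategory.triangleOfSES_distinguished hS)).mp h3

/-- The cone of the map to zero. -/
noncomputable def zFun : CochainComplex C ℤ ⥤ CochainComplex C ℤ :=
  coneFun (0 : 𝟭 (CochainComplex C ℤ) ⟶ (Functor.const _).obj HomologicalComplex.zero)

/-- The cone of `K → 0` is `K[1]`. -/
noncomputable def zNat :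
    zFun (C := C) ⋙ DerivedCategory.Q ⟶
      DerivedCategory.Q ⋙ shiftFunctor (DerivedCategory C) (1 : ℤ) where
  app K := DerivedCategory.Q.map (mappingCone.triangle
      (0 : K ⟶ (HomologicalComplex.zero : CochainComplex C ℤ))).mor₃ ≫
    ((DerivedCategory.Q (C := C)).commShiftIso (1 : ℤ)).hom.app K
  naturality K L f := by
    have h : zFun.map f ≫ (mappingCone.triangle
          (0 : L ⟶ (HomologicalComplex.zero : CochainComplex C ℤ))).mor₃ =
        (mappingCone.triangle (0 : K ⟶ (HomologicalComplex.zero : CochainComplex C ℤ))).mor₃ ≫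
          f⟦(1 : ℤ)⟧' :=
      (mappingCone.triangleMap (0 : K ⟶ (HomologicalComplex.zero : CochainComplex C ℤ))
        (0 : L ⟶ (HomologicalComplex.zero : CochainComplex C ℤ)) f (𝟙 _) (by simp)).comm₃.symm
    have e := ((DerivedCategory.Q (C := C)).commShiftIso (1 : ℤ)).hom.naturality f
    have h2 : DerivedCategory.Q.map (zFun.map f) ≫ DerivedCategory.Q.map (mappingCone.triangle
          (0 : L ⟶ (HomologicalComplex.zero : CochainComplex C ℤ))).mor₃ =
        DerivedCategory.Q.map (mappingCone.triangle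
          (0 : K ⟶ (HomologicalComplex.zero : CochainComplex C ℤ))).mor₃ ≫
            DerivedCategory.Q.map (f⟦(1 : ℤ)⟧') :=
      (DerivedCategory.Q.map_comp _ _).symm.trans ((congrArg DerivedCategory.Q.map h).trans
        (DerivedCategory.Q.map_comp _ _))
    refine ((Category.assoc _ _ _).symm.trans ?_).trans (Category.assoc _ _ _).symm
    refine (congrArg (fun x => x ≫ ((DerivedCategory.Q (C := C)).commShiftIso (1 : ℤ)).hom.app L)
      h2).trans ?_
    exact (Category.assoc _ _ _).trans (congrArg _ e)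

instance zNat_iso (K : CochainComplex C ℤ) : IsIso ((zNat (C := C)).app K) := by
  have h := (Pretriangulated.Triangle.isZero₂_iff_isIso₃ _
    (DerivedCategory.mappingCone_triangle_distinguished
      (0 : K ⟶ (HomologicalComplex.zero : CochainComplex C ℤ)))).mp
    (Functor.map_isZero DerivedCategory.Q HomologicalComplex.isZero_zero)
  exact h

end general

variable {C : Type u} [Category.{v} C] [Abelian C] (P : ObjectProperty C) [P.IsSerreClass]

/-- The data. -/
structure Data where
  E : C ⥤ C
  Q1 : C ⥤ C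
  [zE : E.PreservesZeroMorphisms]
  [zQ : Q1.PreservesZeroMorphisms]
  R : C ⥤ P.FullSubcategory
  [zR : R.PreservesZeroMorphisms]
  j : 𝟭 C ⟶ E
  p : E ⟶ Q1
  w : ∀ M, j.app M ≫ p.app M = 0
  hses : ∀ M, (ShortComplex.mk _ _ (w M)).ShortExact
  ι : R ⋙ P.ι ⟶ 𝟭 C
  hmono : ∀ M, Mono (ι.app M)
  hUE : ∀ M, UDiv (cokernel (ι.app (E.obj M)))
  hUQ : ∀ M, UDiv (cokernel (ι.app (Q1.obj M)))
  hPU : ∀ M, P M → UDiv M → IsZero M
  hι : ∀ M, P M → IsIso (ι.app M)
  hR : ∀ M, P M → (ShortComplex.mk (P.ι.map (R.map (j.app M))) (P.ι.map (R.map (p.app M)))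
    (by rw [← Functor.map_comp, ← Functor.map_comp, w, Functor.map_zero, Functor.map_zero])).ShortExact

attribute [instance] Data.zE Data.zQ Data.zR

variable {P} (T : Data P)

local notation "Cx" => CochainComplex C ℤ
local notation "A" => ObjectProperty.FullSubcategory P
local notation "up" => ComplexShape.up ℤ

/-- `j` on complexes. -/
def Data.jc : 𝟭 Cx ⟶ T.E.mapHomologicalComplex up where
  app K :=
    { f := fun n => T.j.app (K.X n)
      comm' := fun i k _ => (T.j.naturality (K.d i k)).symm }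
  naturality K L f := by
    ext n
    exact T.j.naturality (f.f n)

/-- The functor `RΓ_tors[1]` on complexes. -/
noncomputable def Data.G0 : Cx ⥤ CochainComplex A ℤ :=
  coneFun (NatTrans.mapHomologicalComplex (Functor.whiskerRight T.p T.R) up)

/-- The cone of `E → Q1`. -/
noncomputable def Data.W : Cx ⥤ Cx :=
  coneFun (NatTrans.mapHomologicalComplex T.p up)

/-- `G0` followed by the inclusion, as a cone in `C`. -/
noncomputable def Data.G0' : Cx ⥤ Cx :=
  coneFun (Functor.whiskerRight (NatTrans.mapHomologicalComplex (Functor.whiskerRight T.p T.R) up)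
    (P.ι.mapHomologicalComplex up))

/-- The comparison of `G0 ⋙ incl` with `G0'`. -/
noncomputable def Data.g0Iso : T.G0 ⋙ P.ι.mapHomologicalComplex up ≅ T.G0' :=
  coneFunCompIso _ P.ι

/-- `u : K[1] → W`. -/
noncomputable def Data.u : zFun ⟶ T.W :=
  coneNat _ _ T.jc 0 (by
    ext K n
    simp only [NatTrans.comp_app, HomologicalComplex.comp_f]
    exact (comp_zero).trans (T.w (K.X n)).symm)

theorem Data.isIso_u (K : Cx) : IsIso (DerivedCategory.Q.map (T.u.app K)) := by
  let S : ShortComplex Cx := ShortComplex.mk (T.jc.app K)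
    ((NatTrans.mapHomologicalComplex T.p up).app K) (by ext n; exact T.w (K.X n))
  let S' : ShortComplex Cx := ShortComplex.mk
    (0 : (HomologicalComplex.zero : Cx) ⟶ (T.Q1.mapHomologicalComplex up).obj K) (𝟙 _) (by simp)
  let φ : S ⟶ S' :=
    { τ₁ := 0
      τ₂ := (NatTrans.mapHomologicalComplex T.p up).app K
      τ₃ := 𝟙 _
      comm₁₂ := by ext n; exact zero_comp.trans (T.w (K.X n)).symm
      comm₂₃ := by simp [S, S'] }
  have hS : S.ShortExact := HomologicalComplex.shortExact_of_degreewise_shortExact _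
    (fun n => T.hses (K.X n))
  have hS' : S'.ShortExact := by
    have : IsIso S'.g := inferInstanceAs (IsIso (𝟙 _))
    haveI : Mono S'.f := (HomologicalComplex.isZero_zero (V := C) (c := up)).mono _
    haveI : Epi S'.g := inferInstanceAs (Epi (𝟙 _))
    exact ⟨S'.exact_iff_mono rfl |>.mpr inferInstance⟩
  exact isIso_Q_f (coneSC_shortExact φ hS hS') (isZero_Q_cone_id _)

/-- The quotient of `M` by its part in `P`, as a functor. -/
noncomputable def Data.N : C ⥤ C where
  obj M := cokernel (T.ι.app M)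
  map f := cokernel.map _ _ ((T.R ⋙ P.ι).map f) f (T.ι.naturality f).symm

instance : T.N.PreservesZeroMorphisms where
  map_zero M M' := by
    apply coequalizer.hom_ext
    simp [Data.N]
    exact comp_zero.symm

/-- The projection to the quotient. -/
noncomputable def Data.π : 𝟭 C ⟶ T.N where
  app M := cokernel.π (T.ι.app M)
  naturality M M' f := (cokernel.π_desc _ _ _).symm

/-- The part in `P`, on complexes. -/
noncomputable def Data.ιc (F : C ⥤ C) [F.PreservesZeroMorphisms] :
    (F ⋙ T.R).mapHomologicalComplex up ⋙ P.ι.mapHomologicalComplex up ⟶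
      F.mapHomologicalComplex up where
  app K :=
    { f := fun n => T.ι.app (F.obj (K.X n))
      comm' := fun i k _ => (T.ι.naturality (F.map (K.d i k))).symm }
  naturality K L f := by
    ext n
    exact T.ι.naturality (F.map (f.f n))

/-- `v : G0' → W`. -/
noncomputable def Data.v : T.G0' ⟶ T.W :=
  coneNat _ _ (T.ιc T.E) (T.ιc T.Q1) (by
    ext K n
    exact T.ι.naturality (T.p.app (K.X n)))

/-- The short complexes `R(F K) → F K → N(F K)`. -/
noncomputable def Data.sc (F : C ⥤ C) [F.PreservesZeroMorphisms] (K : Cx) : ShortComplex Cx :=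
  ShortComplex.mk ((T.ιc F).app K)
    ((NatTrans.mapHomologicalComplex (Functor.whiskerLeft F T.π) up).app K)
    (by ext n; exact cokernel.condition _)

theorem Data.sc_shortExact (F : C ⥤ C) [F.PreservesZeroMorphisms] (K : Cx) :
    (T.sc F K).ShortExact := by
  apply HomologicalComplex.shortExact_of_degreewise_shortExact
  intro n
  haveI := T.hmono (F.obj (K.X n))
  exact { exact := ShortComplex.exact_of_g_is_cokernel _ (cokernelIsCokernel (T.ι.app (F.obj (K.X n))))
          mono_f := T.hmono (F.obj (K.X n))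
          epi_g := inferInstanceAs (Epi (cokernel.π (T.ι.app (F.obj (K.X n))))) }

/-- The map between the two short complexes. -/
noncomputable def Data.scMap (K : Cx) : T.sc T.E K ⟶ T.sc T.Q1 K where
  τ₁ := (Functor.whiskerRight (NatTrans.mapHomologicalComplex (Functor.whiskerRight T.p T.R) up)
    (P.ι.mapHomologicalComplex up)).app K
  τ₂ := (NatTrans.mapHomologicalComplex T.p up).app K
  τ₃ := (NatTrans.mapHomologicalComplex (Functor.whiskerRight T.p T.N) up).app K
  comm₁₂ := by
    ext n
    exact T.ι.naturality (T.p.app (K.X n))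
  comm₂₃ := by
    ext n
    exact T.π.naturality (T.p.app (K.X n))

/-- The cone of the quotients. -/
noncomputable def Data.NC : Cx ⥤ Cx :=
  coneFun (NatTrans.mapHomologicalComplex (Functor.whiskerRight T.p T.N) up)

/-- `W → NC`. -/
noncomputable def Data.q : T.W ⟶ T.NC :=
  coneNat _ _ (NatTrans.mapHomologicalComplex (Functor.whiskerLeft T.E T.π) up)
    (NatTrans.mapHomologicalComplex (Functor.whiskerLeft T.Q1 T.π) up) (by
      ext K n
      exact T.π.naturality (T.p.app (K.X n)))

theorem Data.G0'_terms (K : Cx) (i : ℤ) : P ((T.G0'.obj K).X i) :=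
  cone_terms P (fun _ _ h h' => P.prop_biprod h h') _ (fun n => (T.R.obj _).property)
    (fun n => (T.R.obj _).property) i

theorem Data.NC_terms (K : Cx) (i : ℤ) : UDiv ((T.NC.obj K).X i) :=
  cone_terms UDiv (fun _ _ h h' => h.biprod h') _ (fun n => T.hUE (K.X n))
    (fun n => T.hUQ (K.X n)) i

theorem Data.ses (K : Cx) :
    (ShortComplex.mk (T.v.app K) (T.q.app K)
      (coneSC (T.scMap K)).zero : ShortComplex Cx).ShortExact :=
  coneSC_shortExact (T.scMap K) (T.sc_shortExact _ K) (T.sc_shortExact _ K)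

/-- The short complex `G0' → W → NC` at `K`. -/
noncomputable def Data.S (K : Cx) : ShortComplex Cx :=
  ShortComplex.mk (T.v.app K) (T.q.app K) (coneSC (T.scMap K)).zero

/-- Its functoriality. -/
noncomputable def Data.SMap {K L : Cx} (f : K ⟶ L) : T.S K ⟶ T.S L where
  τ₁ := T.G0'.map f
  τ₂ := T.W.map f
  τ₃ := T.NC.map f
  comm₁₂ := T.v.naturality f
  comm₂₃ := T.q.naturality f

/-- Naturality of `zFun → W` after `Q`. -/
noncomputable def Data.wIso :
    T.W ⋙ DerivedCategory.Q ≅ DerivedCategory.Q ⋙ shiftFunctor (DerivedCategory C) (1 : ℤ) :=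
  haveI : ∀ K, IsIso ((Functor.whiskerRight T.u DerivedCategory.Q).app K) := fun K => T.isIso_u K
  haveI : IsIso (Functor.whiskerRight T.u DerivedCategory.Q) := NatIso.isIso_of_isIso_app _
  haveI : IsIso (zNat (C := C)) := NatIso.isIso_of_isIso_app _
  (asIso (Functor.whiskerRight T.u DerivedCategory.Q)).symm ≪≫ asIso zNat

theorem Data.G0'_qis {K L : Cx} (f : K ⟶ L) (hf : QuasiIso f) : QuasiIso (T.G0'.map f) := by
  rw [quasiIso_iff_isZero_cone, isZero_Q_obj_iff]
  have hW : QuasiIso (T.W.map f) := by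
    rw [← DerivedCategory.isIso_Q_map_iff_quasiIso]
    haveI := (DerivedCategory.isIso_Q_map_iff_quasiIso (φ := f)).2 hf
    exact (NatIso.isIso_map_iff T.wIso f).2 (inferInstanceAs (IsIso ((DerivedCategory.Q.map f)⟦(1 : ℤ)⟧')))
  have hmid := (isZero_Q_obj_iff _).mp ((quasiIso_iff_isZero_cone _).mp hW)
  have hS : (coneSC (T.SMap f)).ShortExact := coneSC_shortExact _ (T.ses K) (T.ses L)
  intro n
  refine T.hPU _ (homology_prop P _ (fun i => cone_terms P (fun _ _ h h' => P.prop_biprod h h') _
    (T.G0'_terms K) (T.G0'_terms L) i) n) ?_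
  exact UDiv.of_iso (UDiv.homology _ (fun i => cone_terms UDiv (fun _ _ h h' => h.biprod h') _
    (T.NC_terms K) (T.NC_terms L) i) (n - 1)) (hS.δIso (n - 1) n (sub_add_cancel n 1) (hmid _) (hmid _))

theorem Data.G0_inverts :
    (HomologicalComplex.quasiIso C up).IsInvertedBy (T.G0 ⋙ DerivedCategory.Q) := by
  intro K L f hf
  rw [Functor.comp_map, DerivedCategory.isIso_Q_map_iff_quasiIso,
    ← HomologicalComplex.quasiIso_map_iff_of_preservesHomology _ P.ι,
    ← DerivedCategory.isIso_Q_map_iff_quasiIso]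
  haveI : IsIso (DerivedCategory.Q.map (T.G0'.map f)) := by
    rw [DerivedCategory.isIso_Q_map_iff_quasiIso]
    exact T.G0'_qis f hf
  exact (NatIso.isIso_map_iff (Functor.isoWhiskerRight T.g0Iso DerivedCategory.Q) f).2
    (inferInstanceAs (IsIso (DerivedCategory.Q.map (T.G0'.map f))))

/-- The derived functor. -/
noncomputable def Data.GD : DerivedCategory C ⥤ DerivedCategory A :=
  Localization.lift (T.G0 ⋙ DerivedCategory.Q) T.G0_inverts DerivedCategory.Q

/-- Its defining isomorphism. -/
noncomputable def Data.GDfac : DerivedCategory.Q ⋙ T.GD ≅ T.G0 ⋙ DerivedCategory.Q :=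
  Localization.fac _ T.G0_inverts DerivedCategory.Q

noncomputable instance : Localization.Lifting DerivedCategory.Q
    (HomologicalComplex.quasiIso C up) (T.G0 ⋙ DerivedCategory.Q) T.GD :=
  ⟨T.GDfac⟩

/-- The transformation `ι G → [1]`. -/
noncomputable def Data.ε0 :
    T.G0 ⋙ DerivedCategory.Q ⋙ WSerre.toDerived P ⟶
      DerivedCategory.Q ⋙ shiftFunctor (DerivedCategory C) (1 : ℤ) :=
  Functor.whiskerLeft T.G0 P.ι.mapDerivedCategoryFactors.hom ≫
    Functor.whiskerRight (T.g0Iso.hom ≫ T.v) DerivedCategory.Q ≫ T.wIso.hom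

/-- The lifting of `ι ∘ G`. -/
noncomputable def Data.εLift : Localization.Lifting DerivedCategory.Q
    (HomologicalComplex.quasiIso C up) (T.G0 ⋙ DerivedCategory.Q ⋙ WSerre.toDerived P)
    (T.GD ⋙ WSerre.toDerived P) :=
  ⟨(Functor.associator _ _ _).symm ≪≫ Functor.isoWhiskerRight T.GDfac _ ≪≫ Functor.associator _ _ _⟩

/-- The counit. -/
noncomputable def Data.ε :
    T.GD ⋙ WSerre.toDerived P ⟶ shiftFunctor (DerivedCategory C) (1 : ℤ) :=
  letI := T.εLift
  letI : Localization.Lifting DerivedCategory.Q (HomologicalComplex.quasiIso C up)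
      (DerivedCategory.Q ⋙ shiftFunctor (DerivedCategory C) (1 : ℤ))
      (shiftFunctor (DerivedCategory C) (1 : ℤ)) := ⟨Iso.refl _⟩
  Localization.liftNatTrans DerivedCategory.Q (HomologicalComplex.quasiIso C up)
    (T.G0 ⋙ DerivedCategory.Q ⋙ WSerre.toDerived P) _ _ _ T.ε0

theorem Data.isIso_v (K : Cx) (hK : ∀ i, P (K.homology i)) :
    IsIso (DerivedCategory.Q.map (T.v.app K)) := by
  refine isIso_Q_f (T.ses K) ((isZero_Q_obj_iff _).mpr fun n => ?_)
  have hWn : P ((T.W.obj K).homology n) := by
    refine P.prop_of_iso ?_ (hK (n + 1))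
    have e : DerivedCategory.Q.obj (K⟦(1 : ℤ)⟧) ≅ DerivedCategory.Q.obj (T.W.obj K) :=
      ((DerivedCategory.Q (C := C)).commShiftIso (1 : ℤ)).app K ≪≫ (T.wIso.app K).symm
    exact ((CochainComplex.ShiftSequence.shiftIso C 1 n (n + 1) (by omega)).app K).symm ≪≫
      ((DerivedCategory.homologyFunctorFactors C n).app _).symm ≪≫
      (DerivedCategory.homologyFunctor C n).mapIso e ≪≫
      (DerivedCategory.homologyFunctorFactors C n).app _
  exact T.hPU _ (P.prop_X₂_of_exact ((T.ses K).homology_exact₃ n (n + 1) rfl) hWn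
      (homology_prop P _ (T.G0'_terms K) (n + 1))) (UDiv.homology _ (T.NC_terms K) n)

theorem Data.isIso_ε (X : DerivedCategory C) (hX : WSerre.cohIn P X) : IsIso (T.ε.app X) := by
  haveI := Localization.essSurj (DerivedCategory.Q (C := C)) (HomologicalComplex.quasiIso C up)
  let K := DerivedCategory.Q.objPreimage X
  let e : DerivedCategory.Q.obj K ≅ X := DerivedCategory.Q.objObjPreimageIso X
  have hK : ∀ i, P (K.homology i) := fun i =>
    P.prop_of_iso (((DerivedCategory.homologyFunctor C i).mapIso e).symm ≪≫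
      (DerivedCategory.homologyFunctorFactors C i).app K) (hX i)
  rw [← NatTrans.isIso_app_iff_of_iso T.ε e]
  rw [Data.ε, Localization.liftNatTrans_app]
  haveI := T.isIso_v K hK
  simp only [Data.ε0, NatTrans.comp_app, Functor.whiskerLeft_app, Functor.whiskerRight_app,
    Functor.map_comp]
  infer_instance

/-- `K[1] → G0 (K)` for complexes in `P`. -/
noncomputable def Data.θ : P.ι ⋙ T.R ≅ 𝟭 A :=
  NatIso.ofComponents (fun M => haveI := T.hι M.obj M.property
      P.fullyFaithfulι.preimageIso (asIso (T.ι.app M.obj)))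
    (fun {M M'} f => P.ι.map_injective (by
      simp only [Functor.map_comp, Functor.FullyFaithful.preimageIso_hom,
        Functor.FullyFaithful.map_preimage, asIso_hom]
      exact T.ι.naturality (P.ι.map f)))

/-- The natural map `a`. -/
noncomputable def Data.aA :
    𝟭 (CochainComplex A ℤ) ⟶ P.ι.mapHomologicalComplex up ⋙ (T.E ⋙ T.R).mapHomologicalComplex up where
  app K :=
    { f := fun n => T.θ.inv.app (K.X n) ≫ T.R.map (T.j.app (K.X n).obj)
      comm' := fun i k _ => by
        have h1 := T.θ.inv.naturality_assoc (K.d i k) (T.R.map (T.j.app (K.X k).obj))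
        have h2 := congrArg T.R.map (T.j.naturality (P.ι.map (K.d i k)))
        simp only [Functor.map_comp, Functor.id_map, Functor.comp_map] at h1 h2
        refine Eq.trans (Category.assoc _ _ _) (Eq.trans ?_ h1.symm)
        exact congrArg (fun x => T.θ.inv.app (K.X i) ≫ x) h2.symm }
  naturality K L f := by
    apply HomologicalComplex.Hom.ext
    funext n
    have h1 := T.θ.inv.naturality_assoc (f.f n) (T.R.map (T.j.app (L.X n).obj))
    have h2 := congrArg T.R.map (T.j.naturality (P.ι.map (f.f n)))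
    simp only [Functor.map_comp, Functor.id_map, Functor.comp_map] at h1 h2
    refine Eq.trans h1 (Eq.trans ?_ (Category.assoc _ _ _).symm)
    exact congrArg (fun x => T.θ.inv.app (K.X n) ≫ x) h2

/-- `pR` restricted to complexes in `P`. -/
noncomputable def Data.pA :
    P.ι.mapHomologicalComplex up ⋙ (T.E ⋙ T.R).mapHomologicalComplex up ⟶
      P.ι.mapHomologicalComplex up ⋙ (T.Q1 ⋙ T.R).mapHomologicalComplex up :=
  Functor.whiskerLeft _ (NatTrans.mapHomologicalComplex (Functor.whiskerRight T.p T.R) up)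

theorem Data.aA_pA (K : CochainComplex A ℤ) : T.aA.app K ≫ T.pA.app K = 0 := by
  apply HomologicalComplex.Hom.ext
  funext n
  refine Eq.trans (Category.assoc _ _ _) ?_
  refine Eq.trans (congrArg (fun x => T.θ.inv.app (K.X n) ≫ x)
    ((T.R.map_comp (T.j.app _) (T.p.app _)).symm.trans
      ((congrArg T.R.map (T.w _)).trans (T.R.map_zero _ _)))) ?_
  exact comp_zero

/-- `η`. -/
noncomputable def Data.η0 : zFun (C := A) ⟶ P.ι.mapHomologicalComplex up ⋙ T.G0 :=
  coneNat (0 : 𝟭 (CochainComplex A ℤ) ⟶ (Functor.const _).obj HomologicalComplex.zero)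
    T.pA T.aA 0 (by ext K : 2; simp [T.aA_pA])

theorem Data.aA_ses (K : CochainComplex A ℤ) :
    (ShortComplex.mk _ _ (T.aA_pA K)).ShortExact := by
  apply HomologicalComplex.shortExact_of_degreewise_shortExact
  intro n
  apply (ShortExact.shortExact_map_iff P.ι).mp
  refine ShortComplex.shortExact_of_iso ?_ (T.hR (K.X n).obj (K.X n).property)
  refine ShortComplex.isoMk (P.ι.mapIso (T.θ.app (K.X n))) (Iso.refl _) (Iso.refl _) ?_ ?_
  · change P.ι.map (T.θ.hom.app _) ≫ P.ι.map (T.θ.inv.app (K.X n) ≫ T.R.map _) = _ ≫ 𝟙 _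
    rw [← Functor.map_comp, Iso.hom_inv_id_app_assoc, Category.comp_id]
    rfl
  · change 𝟙 _ ≫ _ = _ ≫ 𝟙 _
    rw [Category.id_comp, Category.comp_id]
    rfl

theorem Data.isIso_η0 (K : CochainComplex A ℤ) :
    IsIso (DerivedCategory.Q.map (T.η0.app K)) := by
  let S' : ShortComplex (CochainComplex A ℤ) := ShortComplex.mk
    (0 : (HomologicalComplex.zero : CochainComplex A ℤ) ⟶
      (P.ι.mapHomologicalComplex up ⋙ (T.Q1 ⋙ T.R).mapHomologicalComplex up).obj K) (𝟙 _) (by simp)
  let φ : ShortComplex.mk _ _ (T.aA_pA K) ⟶ S' :=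
    { τ₁ := 0
      τ₂ := T.pA.app K
      τ₃ := 𝟙 _
      comm₁₂ := by simp [S', T.aA_pA]
      comm₂₃ := by simp [S'] }
  have hS' : S'.ShortExact := by
    haveI : Mono S'.f := (HomologicalComplex.isZero_zero (V := A) (c := up)).mono _
    haveI : Epi S'.g := inferInstanceAs (Epi (𝟙 _))
    exact ⟨S'.exact_iff_mono rfl |>.mpr (inferInstanceAs (Mono (𝟙 _)))⟩
  exact isIso_Q_f (coneSC_shortExact φ (T.aA_ses K) hS') (isZero_Q_cone_id _)

/-- The unit. -/
noncomputable def Data.η :
    WSerre.toDerived P ⋙ T.GD ≅ shiftFunctor (DerivedCategory A) (1 : ℤ) :=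
  letI : Localization.Lifting DerivedCategory.Q (HomologicalComplex.quasiIso A up)
      (P.ι.mapHomologicalComplex up ⋙ T.G0 ⋙ DerivedCategory.Q) (WSerre.toDerived P ⋙ T.GD) :=
    ⟨(Functor.associator _ _ _).symm ≪≫
      Functor.isoWhiskerRight P.ι.mapDerivedCategoryFactors _ ≪≫ Functor.associator _ _ _ ≪≫
      Functor.isoWhiskerLeft _ T.GDfac⟩
  letI : Localization.Lifting DerivedCategory.Q (HomologicalComplex.quasiIso A up)
      (DerivedCategory.Q ⋙ shiftFunctor (DerivedCategory A) (1 : ℤ))
      (shiftFunctor (DerivedCategory A) (1 : ℤ)) := ⟨Iso.refl _⟩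
  haveI : ∀ K, IsIso ((Functor.whiskerRight T.η0 DerivedCategory.Q).app K) := fun K => T.isIso_η0 K
  haveI : IsIso (Functor.whiskerRight T.η0 DerivedCategory.Q) := NatIso.isIso_of_isIso_app _
  haveI : IsIso (zNat (C := A)) := NatIso.isIso_of_isIso_app _
  Localization.liftNatIso DerivedCategory.Q (HomologicalComplex.quasiIso A up)
    (P.ι.mapHomologicalComplex up ⋙ T.G0 ⋙ DerivedCategory.Q) _ _ _
    ((asIso (Functor.whiskerRight T.η0 DerivedCategory.Q)).symm ≪≫ asIso zNat)

theorem cohIn_toDerived (a : DerivedCategory A) : WSerre.cohIn P ((WSerre.toDerived P).obj a) := by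
  intro i
  haveI := Localization.essSurj (DerivedCategory.Q (C := A)) (HomologicalComplex.quasiIso A up)
  let K := DerivedCategory.Q.objPreimage a
  let e : (WSerre.toDerived P).obj a ≅
      DerivedCategory.Q.obj ((P.ι.mapHomologicalComplex up).obj K) :=
    ((WSerre.toDerived P).mapIso (DerivedCategory.Q.objObjPreimageIso a)).symm ≪≫
      P.ι.mapDerivedCategoryFactors.app K
  exact P.prop_of_iso (((DerivedCategory.homologyFunctor C i).mapIso e ≪≫
      (DerivedCategory.homologyFunctorFactors C i).app _).symm)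
    (homology_prop P _ (fun n => (K.X n).property) i)

include T in
theorem Data.conclusion :
    (WSerre.toDerived P).Full ∧ (WSerre.toDerived P).Faithful ∧
      ∀ K : DerivedCategory C, WSerre.cohIn P K ↔ (WSerre.toDerived P).essImage K := by
  haveI : (WSerre.toDerived P ⋙ T.GD).Full := Functor.Full.of_iso T.η.symm
  haveI : (WSerre.toDerived P ⋙ T.GD).Faithful := Functor.Faithful.of_iso T.η.symm
  refine ⟨⟨fun {a b} f => ?_⟩, Functor.Faithful.of_comp (WSerre.toDerived P) T.GD, fun K => ?_⟩
  · obtain ⟨g, hg⟩ := (WSerre.toDerived P ⋙ T.GD).map_surjective (T.GD.map f)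
    refine ⟨g, ?_⟩
    have h1 := T.ε.naturality ((WSerre.toDerived P).map g)
    have h2 := T.ε.naturality f
    haveI := T.isIso_ε _ (cohIn_toDerived a)
    simp only [Functor.comp_map] at h1 h2 hg
    rw [hg, h2, cancel_epi] at h1
    exact ((CategoryTheory.shiftFunctor (DerivedCategory C) (1 : ℤ)).map_injective h1).symm
  · constructor
    · intro hK
      haveI := T.isIso_ε K hK
      refine ⟨(T.GD.obj K)⟦(-1 : ℤ)⟧, ⟨?_⟩⟩
      exact ((WSerre.toDerived P).commShiftIso (-1 : ℤ)).app _ ≪≫
        (CategoryTheory.shiftFunctor (DerivedCategory C) (-1 : ℤ)).mapIso (asIso (T.ε.app K)) ≪≫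
        (shiftFunctorCompIsoId (DerivedCategory C) (1 : ℤ) (-1) (by simp)).app K
    · rintro ⟨a, ⟨e⟩⟩ i
      exact P.prop_of_iso ((DerivedCategory.homologyFunctor C i).mapIso e) (cohIn_toDerived a i)

end Groth.Agent.TorsDer
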